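import Mathlib.RingTheory.MvPolynomial.Groebner
import Mathlib.RingTheory.Ideal.Quotient.Operations
import Mathlib.LinearAlgebra.Finsupp.LinearCombination

/-!
# Standard monomials of a single monic polynomial form a basis of the quotient
-/

set_option autoImplicit false

universe u v w

open MvPolynomial

namespace Groth.Agent.MonomialBasisQuotient

variable {R : Type u} [CommRing R] {σ : Type v} (m : MonomialOrder σ) {b : MvPolynomial σ R}

/-- A monomial family indexed injectively by standard monomials of a monic `b` is independent mod `b`. -/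
theorem linearIndependent (hb : m.Monic b) {ι : Type w} (e : ι → σ →₀ ℕ) (he : Function.Injective e)
    (hstd : ∀ i, ¬ m.degree b ≤ e i) :
    LinearIndependent R
      (fun i => Ideal.Quotient.mk (Ideal.span {b}) (monomial (e i) (1 : R))) := by
  classical
  nontriviality R
  rw [linearIndependent_iff]
  intro l hl
  set r : MvPolynomial σ R := l.sum fun i a => monomial (e i) a with hr
  have hmem : r ∈ Ideal.span ({b} : Set (MvPolynomial σ R)) := by
    rw [← Ideal.Quotient.eq_zero_iff_mem, ← hl, hr, Finsupp.linearCombination_apply, map_finsuppSum]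
    refine Finsupp.sum_congr fun i _ => ?_
    rw [← Ideal.Quotient.mkₐ_eq_mk R, ← map_smul, smul_monomial, smul_eq_mul, mul_one]
  have hsupp : ∀ c ∈ r.support, ¬ m.degree b ≤ c := by
    intro c hc
    rw [hr, Finsupp.sum] at hc
    obtain ⟨i, -, hi⟩ := Finset.mem_biUnion.1 (support_sum hc)
    rw [Finset.mem_singleton.1 (support_monomial_subset hi)]
    exact hstd i
  obtain ⟨g, hg⟩ := Ideal.mem_span_singleton'.1 hmem
  have hg0 : g = 0 := by
    by_contra h0
    have hreg : m.leadingCoeff b ∈ nonZeroDivisors R := by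
      rw [hb.leadingCoeff_eq_one]; exact Submonoid.one_mem _
    have hd : m.degree r = m.degree g + m.degree b := by
      rw [← hg, m.degree_mul_of_right_mem_nonZeroDivisors h0 hreg]
    have hr0 : r ≠ 0 := fun h => by
      have := m.leadingCoeff_mul_of_right_mem_nonZeroDivisors (f := g) hreg
      rw [hg, h, m.leadingCoeff_zero, hb.leadingCoeff_eq_one, mul_one] at this
      exact h0 (m.leadingCoeff_eq_zero_iff.1 this.symm)
    refine hsupp _ ((m.degree_mem_support_iff r).2 hr0) ?_
    rw [hd]
    exact le_add_self
  have hr0 : r = 0 := by rw [← hg, hg0, zero_mul]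
  ext i
  have h := congrArg (coeff (e i)) hr0
  rw [hr, Finsupp.sum, coeff_sum, coeff_zero, Finset.sum_eq_single i] at h
  · simpa using h
  · intro j _ hj
    rw [coeff_monomial, if_neg (fun h => hj (he h))]
  · intro hi
    simp [Finsupp.notMem_support_iff.1 hi]

/-- A monomial family covering all standard monomials of a monic `b` spans the quotient by `b`. -/
theorem span_eq_top (hb : m.Monic b) {ι : Type w} (e : ι → σ →₀ ℕ)
    (hstd : ∀ c, ¬ m.degree b ≤ c → ∃ i, e i = c) :
    Submodule.span R (Set.range fun i =>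
      Ideal.Quotient.mk (Ideal.span {b}) (monomial (e i) (1 : R))) = ⊤ := by
  refine eq_top_iff.2 fun q _ => ?_
  obtain ⟨f, rfl⟩ := Ideal.Quotient.mk_surjective q
  obtain ⟨g, r, hgr, -, hr⟩ := m.div_single
    (show IsUnit (m.leadingCoeff b) by rw [hb.leadingCoeff_eq_one]; exact isUnit_one) f
  have h0 : Ideal.Quotient.mk (Ideal.span ({b} : Set (MvPolynomial σ R))) (g * b) = 0 :=
    Ideal.Quotient.eq_zero_iff_mem.2
      (Ideal.mul_mem_left _ g (Ideal.subset_span (Set.mem_singleton b)))
  rw [hgr, map_add, h0, zero_add, r.as_sum, map_sum]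
  refine Submodule.sum_mem _ fun c hc => ?_
  obtain ⟨i, hi⟩ := hstd c (hr c hc)
  have hm : monomial c (coeff c r) = coeff c r • monomial (e i) (1 : R) := by
    rw [hi, smul_monomial, smul_eq_mul, mul_one]
  rw [hm, ← Ideal.Quotient.mkₐ_eq_mk R, map_smul, Ideal.Quotient.mkₐ_eq_mk R]
  exact Submodule.smul_mem _ _ (Submodule.subset_span ⟨i, rfl⟩)

end Groth.Agent.MonomialBasisQuotient
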